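import Mathlib

/-!
# S5932, BLUE: sublattices of the root lattice of `E₇` (helper23)

* `had` : Hadamard's inequality; `had7` : for the quadratic form `qf` of `E₇`;
* `pick` : seven independent vectors; `lat` : the exponent of the quotient.
-/

set_option autoImplicit false

namespace Cfsg.Agent.E7P.Bl

open Matrix Module Finset

/-- Hadamard's inequality -/
theorem had {n : ℕ} (Z : Matrix (Fin n) (Fin n) ℝ) : Z.det ^ 2 ≤ ∏ i, ∑ j, Z i j ^ 2 := by
  have : Fact (finrank ℝ (EuclideanSpace ℝ (Fin n)) = n) := ⟨by simp⟩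
  let b := EuclideanSpace.basisFun (Fin n) ℝ
  let v : Fin n → EuclideanSpace ℝ (Fin n) := fun i => WithLp.toLp 2 (Z i)
  have h1 := b.toBasis.orientation.abs_volumeForm_apply_le v
  rw [Orientation.volumeForm_robust' _ b, Basis.det_apply] at h1
  have h2 : b.toBasis.toMatrix v = Zᵀ := by
    ext i j
    simp [b, v, Basis.toMatrix_apply]
  rw [h2, det_transpose] at h1
  calc Z.det ^ 2 = |Z.det| ^ 2 := (sq_abs _).symm
    _ ≤ (∏ i, ‖v i‖) ^ 2 := pow_le_pow_left₀ (abs_nonneg _) h1 2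
    _ = ∏ i, ∑ j, Z i j ^ 2 := by
      rw [← prod_pow]
      exact prod_congr rfl fun i _ => by rw [EuclideanSpace.real_norm_sq_eq]

theorem had_wt {n : ℕ} (Y : Matrix (Fin n) (Fin n) ℝ) (D : Fin n → ℝ) (hD : ∀ j, 0 ≤ D j) :
    (∏ j, D j) * Y.det ^ 2 ≤ ∏ i, ∑ j, D j * Y i j ^ 2 := by
  have h := had (Y * diagonal fun j => √(D j))
  rw [det_mul, det_diagonal, mul_pow, ← prod_pow] at h
  simp only [mul_diagonal, mul_pow, Real.sq_sqrt (hD _)] at h
  simpa only [mul_comm] using h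

/-- the norm in the coordinates of the simple roots -/
def qf (a : Fin 7 → ℤ) : ℤ :=
  2 * (a 0 * a 0 + a 1 * a 1 + a 2 * a 2 + a 3 * a 3 + a 4 * a 4 + a 5 * a 5 + a 6 * a 6 -
    a 0 * a 2 - a 1 * a 3 - a 2 * a 3 - a 3 * a 4 - a 4 * a 5 - a 5 * a 6)

/-- completing the squares -/
noncomputable def Lo : Matrix (Fin 7) (Fin 7) ℝ :=
  !![1, 0, 0, 0, 0, 0, 0; 0, 1, 0, 0, 0, 0, 0; -1 / 2, 0, 1, 0, 0, 0, 0; 0, -1 / 2, -2 / 3, 1, 0, 0, 0;
    0, 0, 0, -6 / 5, 1, 0, 0; 0, 0, 0, 0, -5 / 4, 1, 0; 0, 0, 0, 0, 0, -4 / 3, 1]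

/-- the weights of the squares -/
noncomputable def Dg : Fin 7 → ℝ := ![2, 2, 3 / 2, 5 / 6, 4 / 5, 3 / 4, 2 / 3]

theorem det_Lo : Lo.det = 1 := by
  rw [det_of_lowerTriangular]
  · simp [Lo, Fin.prod_univ_seven]
  · intro i j h
    fin_cases i <;> fin_cases j <;> first | rfl | exact absurd h (by decide)

theorem qf_eq (a : Fin 7 → ℤ) : (qf a : ℝ) = ∑ j, Dg j * (∑ i, (a i : ℝ) * Lo i j) ^ 2 := by
  simp only [Fin.sum_univ_seven, qf]
  simp [Lo, Dg]
  ring

theorem qf_nonneg (a : Fin 7 → ℤ) : 0 ≤ qf a := by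
  have h : (0 : ℝ) ≤ qf a := by
    rw [qf_eq]
    refine sum_nonneg fun j _ => mul_nonneg ?_ (sq_nonneg _)
    fin_cases j <;> norm_num [Dg]
  exact_mod_cast h

theorem had7 (A : Matrix (Fin 7) (Fin 7) ℤ) : 2 * A.det ^ 2 ≤ ∏ i, qf (A i) := by
  have h := had_wt (A.map ((↑) : ℤ → ℝ) * Lo) Dg fun j => by fin_cases j <;> norm_num [Dg]
  have h1 : ∏ j, Dg j = 2 := by simp [Dg, Fin.prod_univ_seven]; norm_num
  rw [det_mul, det_Lo, mul_one, h1, ← Int.cast_det] at h
  have h2 : ∀ i, ∑ j, Dg j * (A.map ((↑) : ℤ → ℝ) * Lo) i j ^ 2 = (qf (A i) : ℝ) := fun i => by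
    rw [qf_eq]; rfl
  simp only [h2] at h
  exact_mod_cast h

/-- seven independent vectors, one of them prescribed -/
theorem pick {ι : Type*} [Finite ι] (c : ι → Fin 7 → ℤ) (T : Set ι) {i0 : ι} (hi : i0 ∈ T) (h0 : c i0 ≠ 0)
    (h : ∀ m : Fin 7 → ℤ, (∀ i ∈ T, ∑ j, c i j * m j = 0) → m = 0) :
    ∃ f : Fin 7 → ι, Function.Injective f ∧ (∀ j, f j ∈ T) ∧ (∃ j, f j = i0) ∧ (of fun j => c (f j)).det ≠ 0 := by
  classical
  let v : ι → Fin 7 → ℚ := fun i j => c i j
  have hv0 : v i0 ≠ 0 := fun h1 => h0 (funext fun j => by simpa [v] using congrFun h1 j)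
  obtain ⟨B, hBT, hB0, hsp, hli⟩ := exists_linearIndepOn_extension (K := ℚ) (v := v) (s := {i0}) (t := T)
    (LinearIndepOn.singleton hv0) (Set.singleton_subset_iff.2 hi)
  have htop : ⊤ ≤ Submodule.span ℚ (Set.range fun x : B => v x) := by
    rw [← Set.image_eq_range]
    by_contra hne
    obtain ⟨g, hg0, hg⟩ := Submodule.exists_le_ker_of_lt_top _ (lt_top_iff_ne_top.2 fun h1 => hne h1.ge)
    obtain ⟨d, hd⟩ := IsLocalization.exist_integer_multiples_of_finite (nonZeroDivisors ℤ)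
      fun j : Fin 7 => g (Pi.single j 1)
    choose m hm using hd
    have hd0 : ((d : ℤ) : ℚ) ≠ 0 := Int.cast_ne_zero.2 (nonZeroDivisors.coe_ne_zero d)
    have hm' : ∀ j, (m j : ℚ) = ((d : ℤ) : ℚ) * g (Pi.single j 1) := fun j => by
      have h2 := hm j
      rwa [eq_intCast, zsmul_eq_mul] at h2
    have hm0 : m = 0 := h m fun i hi => by
      have h2 : g (v i) = 0 := hg (hsp ⟨i, hi, rfl⟩)
      rw [pi_eq_sum_univ' (v i), map_sum] at h2
      have h3 : ((∑ j, c i j * m j : ℤ) : ℚ) = 0 := by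
        push_cast
        rw [← mul_zero ((d : ℤ) : ℚ), ← h2, mul_sum]
        exact sum_congr rfl fun j _ => by rw [hm', map_smul, smul_eq_mul]; ring
      exact_mod_cast h3
    refine hg0 (LinearMap.pi_ext' fun j => LinearMap.ext_ring ?_)
    have h2 := hm' j
    rw [hm0, Pi.zero_apply, Int.cast_zero] at h2
    simpa using (mul_eq_zero.1 h2.symm).resolve_left hd0
  have := Fintype.ofFinite B
  have hc : Fintype.card B = 7 := by
    rw [← finrank_eq_card_basis (Basis.mk hli htop), finrank_fin_fun]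
  let e := (Fintype.equivFinOfCardEq hc).symm
  refine ⟨fun j => e j, Subtype.val_injective.comp e.injective, fun j => hBT (e j).2,
    ⟨e.symm ⟨i0, hB0 rfl⟩, by simp⟩, fun hd => ?_⟩
  have h1 : IsUnit (of fun j => v (e j)) :=
    linearIndependent_rows_iff_isUnit.1 (LinearIndependent.comp hli e e.injective)
  rw [isUnit_iff_isUnit_det, isUnit_iff_ne_zero] at h1
  apply h1
  have h2 := Int.cast_det (R := ℚ) (of fun j => c (e j))
  rw [hd, Int.cast_zero] at h2
  exact h2.symm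

theorem zpow_sum' {G : Type*} [CommGroup G] {ι : Type*} (x : G) (s : Finset ι) (f : ι → ℤ) :
    x ^ ∑ i ∈ s, f i = ∏ i ∈ s, x ^ f i := by
  classical
  induction s using Finset.induction_on with
  | empty => rw [sum_empty, prod_empty, zpow_zero]
  | insert i s hi ih => rw [sum_insert hi, prod_insert hi, _root_.zpow_add, ih]

/-- the exponent of a character of the root lattice which kills short vectors of full rank -/
theorem lat {ι : Type*} [Finite ι] (c : ι → Fin 7 → ℤ) (T : Set ι) {i0 : ι} (hi : i0 ∈ T) (h0 : c i0 ≠ 0)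
    (h : ∀ m : Fin 7 → ℤ, (∀ i ∈ T, ∑ j, c i j * m j = 0) → m = 0) {n0 : ℤ} (hq0 : qf (c i0) ≤ n0)
    (hq : ∀ i ∈ T, i ≠ i0 → qf (c i) ≤ 4) {G : Type*} [CommGroup G] (b : Fin 7 → G)
    (hb : ∀ i ∈ T, ∏ j, b j ^ c i j = 1) : ∃ d : ℕ, 0 < d ∧ 2 * (d : ℤ) ^ 2 ≤ n0 * 4 ^ 6 ∧ ∀ j, b j ^ d = 1 := by
  obtain ⟨f, hf, hT, ⟨j0, hj0⟩, hd⟩ := pick c T hi h0 h
  set A : Matrix (Fin 7) (Fin 7) ℤ := of fun j => c (f j) with hA
  refine ⟨A.det.natAbs, Int.natAbs_pos.2 hd, ?_, fun j => ?_⟩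
  · rw [Int.natCast_natAbs, sq_abs]
    refine (had7 A).trans ?_
    rw [← mul_prod_erase _ _ (mem_univ j0)]
    refine mul_le_mul (show qf (c (f j0)) ≤ n0 from hj0 ▸ hq0) ?_ (prod_nonneg fun i _ => qf_nonneg _) ((qf_nonneg _).trans hq0)
    refine (prod_le_prod (g := fun _ => 4) (fun i _ => qf_nonneg _) fun i hi => ?_).trans (by simp)
    exact hq _ (hT i) fun h1 => ne_of_mem_erase hi (hf (h1.trans hj0.symm))
  · have h1 : b j ^ A.det = 1 := by
      have h2 : ∀ m, ∑ i, adjugate A j i * A i m = if j = m then A.det else 0 := fun m => by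
        have h3 := congrFun (congrFun (adjugate_mul A) j) m
        rw [mul_apply, Matrix.smul_apply, one_apply, smul_eq_mul, mul_ite, mul_one, mul_zero] at h3
        exact h3
      calc b j ^ A.det = ∏ m, b m ^ ∑ i, adjugate A j i * A i m := by
            simp only [h2]
            rw [prod_eq_single j (fun m _ hm => by rw [if_neg hm.symm, zpow_zero]) (fun h => absurd (mem_univ _) h),
              if_pos rfl]
        _ = ∏ i, (∏ m, b m ^ c (f i) m) ^ adjugate A j i := by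
            simp only [zpow_sum', ← prod_zpow]
            rw [prod_comm]
            exact prod_congr rfl fun i _ => prod_congr rfl fun m _ => by rw [← _root_.zpow_mul, mul_comm]; rfl
        _ = 1 := prod_eq_one fun i _ => by rw [hb _ (hT i), _root_.one_zpow]
    rcases Int.natAbs_eq A.det with h2 | h2
    · rw [← zpow_natCast, ← h2, h1]
    · rw [h2, _root_.zpow_neg, zpow_natCast, inv_eq_one] at h1
      exact h1

end Cfsg.Agent.E7P.Bl
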