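import Cfsg.Agent.E7P.Bl.Lat
import Cfsg.Agent.E7P.Frm.Weyl

/-!
# S5932, BLUE: the torus of `SL₂(K)` is a blueprint if `K` is large (helper23)

* `Bl.dich` : for an element `t` of the torus, either a non-zero cocharacter is constant on the eigenspaces of `t` on the
  56-dimensional module, or `t ^ d` is central for some `d ≤ 128`, `d ≠ 121`;
* `Sit.blue` : the goal.
-/

set_option autoImplicit false
set_option maxRecDepth 100000

namespace Cfsg.Agent.E7P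

open Cfsg Cfsg.Lie Matrix Module
open Cfsg.Agent.ChevalleyStructure.RootVec
open Cfsg.Agent.H943.E7V.Block (D1 rho)
open Cfsg.Agent.R2.T1 Cfsg.Agent.E7P.Kf
open Cfsg.Agent.R2.H9.E6 (pq)
open Cfsg.Agent.H943.SL2Rel (u w h)

universe u v

namespace Bl

/-- the coordinates of a weight in the simple roots (up to a common translation) -/
def ra (s : D1) : Fin 7 → ℤ := fun j => rt chevE8 (nn s) j

/-- the norm of the difference of two weights -/
def nq (s t : ℕ) : ℤ := qf fun j => rt chevE8 s j - rt chevE8 t j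

theorem chk_ra : ∀ s < 240, rt chevE8 s 7 = 1 → ∀ i < 7, chevE8.cartan i s =
    ((List.range 7).map fun j => rt chevE8 s j * chevE7.cartan i (chevE7.simple j)).sum - if i = 6 then 1 else 0 := by
  decide +kernel

theorem chk_co : ∀ s < 240, rt chevE8 s 7 = 1 → ∀ j < 7,
    ((List.range 7).map fun i => chevE8.cartan i s * Kf.iC i j).sum = 2 * rt chevE8 s j - Kf.iC 6 j := by
  decide +kernel

theorem chk_n6 : ∀ s < 240, rt chevE8 s 7 = 1 → nq s (st s).1 ≤ 6 := by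
  decide +kernel

/-- the bounds for the norms -/
def nb (s t : ℕ) : Bool := decide (nq s t ≤ 4) && (decide (t = s) || decide (nq s t ≤ 2) || decide (nq s (st t).1 ≤ 2))

theorem chk_nb : ∀ s < 240, rt chevE8 s 7 = 1 → ∀ t < 240, rt chevE8 t 7 = 1 → t ≠ (st s).1 → nb s t = true := by
  decide +kernel

theorem chk_nq (s t : D1) (h0 : nn t ≠ (st (nn s)).1) :
    nq (nn s) (nn t) ≤ 4 ∧ ((nn t = nn s ∨ nq (nn s) (nn t) ≤ 2) ∨ nq (nn s) (st (nn t)).1 ≤ 2) := by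
  have h1 := chk_nb _ (nn_lt s) (rt_nn s) _ (nn_lt t) (rt_nn t) h0
  simpa only [nb, Bool.and_eq_true, Bool.or_eq_true, decide_eq_true_eq] using h1

theorem nn_op (s : D1) : (st (nn s)).1 = nn (op s) := by rw [st_eq]

theorem qf_op (s : D1) : qf (ra s - ra (op s)) ≤ 6 := by
  have h1 := chk_n6 _ (nn_lt s) (rt_nn s)
  rwa [nn_op] at h1

theorem qf_ne {s t : D1} (h0 : t ≠ op s) : qf (ra s - ra t) ≤ 4 :=
  (chk_nq s t fun h1 => h0 (nn_inj (h1.trans (nn_op s)))).1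

theorem qf_two {s t : D1} (h0 : t ≠ op s) (h1 : t ≠ s) : qf (ra s - ra t) ≤ 2 ∨ qf (ra s - ra (op t)) ≤ 2 := by
  have h2 := (chk_nq s t fun h1 => h0 (nn_inj (h1.trans (nn_op s)))).2
  rw [nn_op] at h2
  exact h2.imp_left fun h3 => h3.resolve_left fun h4 => h1 (nn_inj h4)

theorem wc_eq (s : D1) : wc s = ∑ j : Fin 7, ra s j • rc (chevE7.simple j) + fun i : Fin 7 => -if i.1 = 6 then 1 else 0 := by
  funext i
  have h1 := chk_ra _ (nn_lt s) (rt_nn s) i i.2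
  rw [sum7] at h1
  rw [Pi.add_apply, Finset.sum_apply, ← sub_eq_add_neg]
  exact h1

theorem ra_ne {s t : D1} (h0 : s ≠ t) : ra s - ra t ≠ 0 := fun h1 =>
  h0 (wc_inj (by rw [wc_eq, wc_eq, sub_eq_zero.1 h1]))

/-- the cocharacter of a linear form on the root lattice -/
def co (m : Fin 7 → ℤ) : Fin 7 → ℤ := fun i => ∑ j : Fin 7, Kf.iC i j * m j

theorem co_ne {m : Fin 7 → ℤ} (hm : m ≠ 0) : co m ≠ 0 := by
  intro h0
  apply hm
  have e := fun i => congrFun h0 i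
  have e0 := e 0
  have e1 := e 1
  have e2 := e 2
  have e3 := e 3
  have e4 := e 4
  have e5 := e 5
  have e6 := e 6
  simp only [co, Fin.sum_univ_seven, Kf.iC] at e0 e1 e2 e3 e4 e5 e6
  norm_num at e0 e1 e2 e3 e4 e5 e6
  funext i
  fin_cases i <;> simp <;> omega

theorem wc_co (s : D1) (m : Fin 7 → ℤ) :
    ∑ i, wc s i * co m i = 2 * ∑ j, ra s j * m j - ∑ j : Fin 7, Kf.iC 6 j * m j := by
  simp only [co, Finset.mul_sum]
  rw [Finset.sum_comm, ← Finset.sum_sub_distrib]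
  refine Finset.sum_congr rfl fun j _ => ?_
  have h1 := chk_co _ (nn_lt s) (rt_nn s) j j.2
  rw [sum7] at h1
  have h2 : ∑ i, wc s i * (Kf.iC i j * m j) = (∑ i : Fin 7, chevE8.cartan i (nn s) * Kf.iC i j) * m j := by
    rw [Finset.sum_mul]
    exact Finset.sum_congr rfl fun i _ => (mul_assoc _ _ _).symm
  rw [h2, h1, ra]
  ring

variable {k : Type u} [Field k]

theorem ch_pow (c : Fin 7 → ℤ) (t : Fin chevE7.rank → kˣ) (n : ℕ) : ch c (t ^ n) = ch c t ^ n := by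
  unfold ch
  rw [← Finset.prod_pow]
  exact Finset.prod_congr rfl fun i _ => by rw [Pi.pow_apply, ← zpow_natCast, ← zpow_natCast, zpow_comm]

theorem kill_ra {t : Fin chevE7.rank → kˣ} {μ ν : D1} (h0 : ch (wc μ) t = ch (wc ν) t) :
    ∏ j : Fin 7, ch (rc (chevE7.simple j)) t ^ (ra μ - ra ν) j = 1 := by
  rw [wc_eq, wc_eq, ch_add, ch_add, mul_left_inj, ch_sum, ch_sum] at h0
  simp only [ch_zsmul] at h0
  simp only [Pi.sub_apply, _root_.zpow_sub, Finset.prod_mul_distrib, Finset.prod_inv_distrib]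
  rw [h0, mul_inv_cancel]

theorem root_pow {t : Fin chevE7.rank → kˣ} {d : ℕ} (h0 : ∀ j : Fin 7, ch (rc (chevE7.simple j)) t ^ d = 1) {r : ℕ}
    (hr : r < 126) : ch (rc r) t ^ d = 1 := by
  have h1 : rc r = ∑ j : Fin 7, rt chevE7 r j • rc (chevE7.simple j) := by
    funext i
    rw [rc_eq hr, Finset.sum_apply, Finset.sum_range]
    rfl
  rw [h1, ch_sum, ← Finset.prod_pow]
  refine Finset.prod_eq_one fun j _ => ?_
  rw [ch_zsmul, ← zpow_natCast, zpow_comm, zpow_natCast, h0, _root_.one_zpow]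

theorem sq_of_op {t : Fin chevE7.rank → kˣ} {μ : D1} (h0 : ch (wc μ) t = ch (wc (op μ)) t) : ch (wc μ) (t ^ 2) = 1 := by
  rw [wc_op, ch_neg] at h0
  rw [ch_pow, sq]
  exact mul_eq_one_iff_eq_inv.2 h0

/-- **the dichotomy** -/
theorem dich (t : Fin chevE7.rank → kˣ) :
    (∃ l : Fin 7 → ℤ, l ≠ 0 ∧ ∀ μ ν : D1, ch (wc μ) t = ch (wc ν) t → ∑ i, wc μ i * l i = ∑ i, wc ν i * l i) ∨
    ∃ d : ℕ, 0 < d ∧ d ≤ 128 ∧ d ≠ 121 ∧ ∀ r < 126, ch (rc r) t ^ d = 1 := by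
  by_cases hm : ∃ m : Fin 7 → ℤ, m ≠ 0 ∧ ∀ μ ν : D1, ch (wc μ) t = ch (wc ν) t → ∑ j, ra μ j * m j = ∑ j, ra ν j * m j
  · obtain ⟨m, hm0, hm⟩ := hm
    exact Or.inl ⟨co m, co_ne hm0, fun μ ν h0 => by rw [wc_co, wc_co, hm μ ν h0]⟩
  right
  have hno : ∀ m : Fin 7 → ℤ, (∀ μ ν : D1, ch (wc μ) t = ch (wc ν) t → ∑ j, ra μ j * m j = ∑ j, ra ν j * m j) → m = 0 :=
    fun m h0 => by_contra fun h1 => hm ⟨m, h1, h0⟩
  have hsub : ∀ (μ ν : D1) (m : Fin 7 → ℤ), ∑ j, (ra μ - ra ν) j * m j = 0 ↔ ∑ j, ra μ j * m j = ∑ j, ra ν j * m j := by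
    intro μ ν m
    simp only [Pi.sub_apply, sub_mul, Finset.sum_sub_distrib, sub_eq_zero]
  have hop : ∀ {μ ν : D1}, op μ = op ν → μ = ν := fun {μ _} h0 => by rw [← op_op μ, h0, op_op]
  by_cases hB : ∃ μ ν : D1, ch (wc μ) t = ch (wc (op μ)) t ∧ ch (wc ν) t = ch (wc (op ν)) t ∧ ν ≠ μ ∧ ν ≠ op μ
  · obtain ⟨μ1, μ2, h1, h2, h3, h4⟩ := hB
    obtain ⟨μ3, h5, h6, h7, h8⟩ : ∃ μ3, ch (wc μ3) (t ^ 2) = 1 ∧ μ1 ≠ μ3 ∧ μ3 ≠ op μ1 ∧ qf (ra μ1 - ra μ3) ≤ 2 := by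
      rcases qf_two h4 h3 with h5 | h5
      · exact ⟨μ2, sq_of_op h2, h3.symm, h4, h5⟩
      · exact ⟨op μ2, sq_of_op (by rw [op_op, h2]), fun h6 => h4 (by rw [h6, op_op]), fun h6 => h3 (hop h6), h5⟩
    obtain ⟨d, d0, d1, d2⟩ := lat (fun x : D1 × D1 => ra x.1 - ra x.2)
      {x | ch (wc x.1) (t ^ 2) = ch (wc x.2) (t ^ 2) ∧ x.2 ≠ op x.1} (i0 := (μ1, μ3))
      ⟨(sq_of_op h1).trans h5.symm, h7⟩ (ra_ne h6)
      (fun m h0 => hno m fun μ ν hμ => by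
        by_cases h9 : ν = op μ
        · subst h9
          obtain ⟨κ, k1, k2, k3⟩ : ∃ κ, ch (wc κ) (t ^ 2) = 1 ∧ κ ≠ μ ∧ κ ≠ op μ := by
            by_cases e1 : μ1 = μ
            · exact ⟨μ2, sq_of_op h2, e1 ▸ h3, e1 ▸ h4⟩
            by_cases e2 : μ1 = op μ
            · exact ⟨μ2, sq_of_op h2, fun e => h4 (by rw [e2, op_op, e]), e2 ▸ h3⟩
            · exact ⟨μ1, sq_of_op h1, e1, e2⟩
          exact ((hsub _ _ m).1 (h0 (μ, κ) ⟨(sq_of_op hμ).trans k1.symm, k3⟩)).trans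
            ((hsub _ _ m).1 (h0 (κ, op μ) ⟨k1.trans (sq_of_op (by rw [op_op, hμ])).symm, fun e => k2 (hop e).symm⟩))
        · exact (hsub _ _ m).1 (h0 (μ, ν) ⟨by rw [ch_pow, ch_pow, hμ], h9⟩))
      h8 (fun x hx _ => qf_ne hx.2) (fun j => ch (rc (chevE7.simple j)) (t ^ 2)) fun x hx => kill_ra hx.1
    refine ⟨2 * d, by omega, by nlinarith, by omega, fun r hr => ?_⟩
    rw [pow_mul, ← ch_pow]
    exact root_pow d2 hr
  · obtain ⟨μ0, ν0, h1, h2, h3, h4⟩ : ∃ μ0 ν0 : D1, ch (wc μ0) t = ch (wc ν0) t ∧ μ0 ≠ ν0 ∧ qf (ra μ0 - ra ν0) ≤ 6 ∧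
        ∀ μ, ch (wc μ) t = ch (wc (op μ)) t → (μ = μ0 ∧ op μ = ν0) ∨ (μ = ν0 ∧ op μ = μ0) := by
      by_cases hA : ∃ μ, ch (wc μ) t = ch (wc (op μ)) t
      · obtain ⟨μ0, h1⟩ := hA
        refine ⟨μ0, op μ0, h1, ne_op μ0, qf_op μ0, fun μ hμ => ?_⟩
        by_cases e1 : μ = μ0
        · exact Or.inl ⟨e1, by rw [e1]⟩
        by_cases e2 : μ = op μ0
        · exact Or.inr ⟨e2, by rw [e2, op_op]⟩
        · exact absurd ⟨μ0, μ, h1, hμ, e1, e2⟩ hB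
      · by_contra hc
        refine one_ne_zero (congrFun (hno 1 fun μ ν hμ => ?_) 0)
        by_contra e
        have e1 : μ ≠ ν := fun e1 => e (by rw [e1])
        have e2 : ν ≠ op μ := fun e2 => hA ⟨μ, e2 ▸ hμ⟩
        exact hc ⟨μ, ν, hμ, e1, (qf_ne e2).trans (by norm_num), fun κ hκ => absurd ⟨κ, hκ⟩ hA⟩
    obtain ⟨d, d0, d1, d2⟩ := lat (fun x : D1 × D1 => ra x.1 - ra x.2)
      {x | ch (wc x.1) t = ch (wc x.2) t ∧ (x.2 ≠ op x.1 ∨ x = (μ0, ν0))} (i0 := (μ0, ν0)) ⟨h1, Or.inr rfl⟩ (ra_ne h2)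
      (fun m h0 => hno m fun μ ν hμ => by
        by_cases h9 : ν = op μ
        · subst h9
          have e := (hsub _ _ m).1 (h0 (μ0, ν0) ⟨h1, Or.inr rfl⟩)
          rcases h4 μ hμ with ⟨e1, e2⟩ | ⟨e1, e2⟩
          · rw [e2, e1]; exact e
          · rw [e2, e1]; exact e.symm
        · exact (hsub _ _ m).1 (h0 (μ, ν) ⟨hμ, Or.inl h9⟩))
      h3 (fun x hx h0 => qf_ne (hx.2.resolve_right h0)) (fun j => ch (rc (chevE7.simple j)) t) fun x hx => kill_ra hx.1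
    have d3 : d ≤ 110 := by nlinarith
    exact ⟨d, d0, by omega, by omega, fun r hr => root_pow d2 hr⟩

theorem ad_Phi_one {t : Fin chevE7.rank → kˣ} (h0 : ∀ r < 126, ch (rc r) t = 1) : ad k (Phi k t) = 1 := by
  refine Subtype.ext (Units.ext ?_)
  show adM k (Phi k t) = 1
  rw [wrep_L.tor, ← diagonal_one]
  congr 1
  funext i
  rcases i with i | r
  · rw [ac_inl, ch_zero]; rfl
  · rw [ac_inr, h0 r r.2]; rfl

end Bl

namespace Sit

variable {p a b : ℕ} {F : Type u} {K : Type v} {k : Type u} [Field F] [Fintype F] [Field K] [Fintype K] [Field k]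
  (S : Sit p a b F K k)

/-- the torus of a frame lies in both parabolic subgroups -/
theorem bl_mem (fr : S.Frame) (t : Fin chevE7.rank → kˣ) : fr.g * Phi k t * fr.g⁻¹ ∈ S.P ⊓ S.P' := by
  refine ⟨S.mem_P.2 ?_, S.mem_P'.2 (S.mem_P.2 ?_)⟩
  · have h1 := mul_mem (mul_mem fr.hg (Phi_mem_Pl S.β t)) (inv_mem fr.hg)
    convert h1 using 1
    group
  · obtain ⟨t', ht⟩ := nL_conj_Phi' fr.l t
    have h1 := mul_mem (mul_mem fr.hg (mul_mem (mul_mem (inv_mem fr.hw) (Phi_mem_Pl S.β t')) fr.hw)) (inv_mem fr.hg)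
    rw [← ht] at h1
    convert h1 using 1
    group

theorem bl_sq {c : Kˣ} (h0 : ad k (S.ψ (h c)) = 1) : c ^ 2 = 1 := by
  have h1 : ad F (S.ψ0 (h c)) = 1 := (ad_emb_eq_one_iff S.f _).1 h0
  rw [S.lift] at h1
  have h3 : pq (h c) = 1 := S.max.inj (by rw [h1, map_one])
  have h4 : h c ∈ Subgroup.center (SpecialLinearGroup (Fin 2) K) := (QuotientGroup.eq_one_iff _).1 h3
  have h5 : ((w : SpecialLinearGroup (Fin 2) K).1 * (h c).1) 0 1 = ((h c).1 * (w : SpecialLinearGroup (Fin 2) K).1) 0 1 :=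
    congrArg (fun m : SpecialLinearGroup (Fin 2) K => m.1 0 1) (Subgroup.mem_center_iff.1 h4 w)
  simp [h, w, Matrix.mul_apply, Fin.sum_univ_two] at h5
  refine Units.ext ?_
  rw [Units.val_pow_eq_pow_val, sq, Units.val_one]
  nth_rw 1 [← h5]
  exact inv_mul_cancel₀ c.ne_zero

/-- **BLUE** -/
theorem blue (hr : p ^ a = 243 ∨ 257 < p ^ a) (fr : S.Frame) : Nonempty (S.TorW (rho k)) := by
  obtain ⟨c, hc⟩ := IsCyclic.exists_ofOrder_eq_natCard (α := Kˣ)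
  rw [Nat.card_units, Nat.card_eq_fintype_card, S.cardK] at hc
  obtain ⟨t, ht⟩ := fr.ht c
  rcases Bl.dich t with ⟨l, l0, hl⟩ | ⟨d, d0, d1, d2, hd⟩
  · refine ⟨⟨⊤, ⟨fun _ _ _ _ => trivial, fun _ _ => trivial⟩, ⟨1, by simp, fun y hy => ?_⟩, fr.g, l, l0,
      fun z => S.bl_mem fr _, fun θ => ?_⟩⟩
    · rw [pow_one]
      refine rho_injective ?_
      rw [map_one]
      exact ext_of_mulVec_single fun i => by rw [hy _ trivial, one_mulVec]
    · have key : ∃ n : ℤ, ∀ μ : D1, ((ch (wc μ) t : kˣ) : k) = θ c → ∑ i, wc μ i * l i = n := by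
        by_cases e : ∃ μ : D1, ((ch (wc μ) t : kˣ) : k) = θ c
        · obtain ⟨μ0, e⟩ := e
          exact ⟨_, fun μ hμ => hl μ μ0 (Units.ext (hμ.trans e.symm))⟩
        · exact ⟨0, fun μ hμ => absurd ⟨μ, hμ⟩ e⟩
      obtain ⟨n, hn⟩ := key
      refine ⟨n, fun y _ hy z => ?_⟩
      have h1 := congrArg (fun x => rho k fr.g⁻¹ *ᵥ x) (hy c)
      simp only [ht, mulVec_mul, mulVec_inv, mulVec_smul] at h1
      have h2 : rho k (Phi k (lam l z)) *ᵥ (rho k fr.g⁻¹ *ᵥ y) = ((z ^ n : kˣ) : k) • (rho k fr.g⁻¹ *ᵥ y) := by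
        funext μ
        have h3 := congrFun h1 μ
        rw [wrep_V.tor, mulVec_diagonal, Pi.smul_apply, smul_eq_mul] at h3
        rw [wrep_V.tor, mulVec_diagonal, Pi.smul_apply, smul_eq_mul, ch_lam]
        by_cases e : (rho k fr.g⁻¹ *ᵥ y) μ = 0
        · rw [e, mul_zero, mul_zero]
        · rw [hn μ (mul_right_cancel₀ e h3)]
      rw [mulVec_mul, mulVec_mul, h2, mulVec_smul, mulVec_inv']
  · exfalso
    have h1 : ad k (S.ψ (h (c ^ d))) = 1 := by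
      rw [H943.SL2Rel.h_pow, map_pow, ht, conj_pow, ← map_pow, map_mul, map_mul,
        Bl.ad_Phi_one fun r hr => by rw [Bl.ch_pow, hd r hr], mul_one, ← map_mul, mul_inv_cancel, map_one]
    have h2 := S.bl_sq h1
    rw [← pow_mul, ← orderOf_dvd_iff_pow_eq_one, hc] at h2
    have h3 := Nat.le_of_dvd (by omega) h2
    rcases hr with hr | hr
    · rw [hr] at h2
      omega
    · omega

end Sit

end Cfsg.Agent.E7P
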